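import Groth.Agent.Gabber11.Opens
import Groth.Agent.BigSiteLib.EtZarCmp
import Groth.Agent.EtFound.LocConst
import Groth.Agent.EtFound.FLCAb

/-! positive degree classes vanish locally for the Zariski topology when all local rings are strictly henselian -/

universe u

open CategoryTheory CategoryTheory.Limits AlgebraicGeometry Opposite CategoryTheory.Abelian

namespace Groth.Agent.Gabber11

set_option backward.isDefEq.respectTransparency.types false

open EtMVLib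

section generic

variable {C : Type*} [Category C] [Abelian C] [HasExt.{u + 1} C] {A A' : C} {S : ShortComplex C} (hS : S.ShortExact)

theorem kill_of_lift (m : A' ⟶ A) (a₀ : A ⟶ S.X₃) (b : A' ⟶ S.X₂) (h : m ≫ a₀ = b ≫ S.g) :
    (Ext.mk₀ m).comp ((Ext.mk₀ a₀).comp hS.extClass (zero_add 1)) (zero_add 1) = 0 := by
  rw [Ext.mk₀_comp_mk₀_assoc, h, ← Ext.mk₀_comp_mk₀_assoc, hS.comp_extClass, Ext.comp_zero]

theorem kill_comp (m : A' ⟶ A) {n : ℕ} (α : Ext A S.X₃ n) (h : (Ext.mk₀ m).comp α (zero_add n) = 0) :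
    (Ext.mk₀ m).comp (α.comp hS.extClass (rfl : n + 1 = n + 1)) (zero_add (n + 1)) = 0 := by
  rw [← Ext.comp_assoc _ _ _ (zero_add n) (rfl : n + 1 = n + 1) (by omega), h, Ext.zero_comp]

theorem trans_lift {B B' : Type*} [Category B] [Category B'] [Abelian B] [Abelian B']
    [EnoughInjectives C] [HasExt.{u + 1} B] [HasExt.{u + 1} B']
    (R : C ⥤ B) {L : B ⥤ C} (adj : L ⊣ R) (R' : C ⥤ B') (K : B ⥤ B') {cB : B} {cC : B'} (cK : cC ⟶ K.obj cB)
    (th : R ⋙ K ≅ R') {L' : B' ⥤ C} (adj' : L' ⊣ R') {I Q : C} (g : I ⟶ Q) (a₀ : L.obj cB ⟶ Q) (β : cC ⟶ R'.obj I)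
    (hβ : β ≫ R'.map g = cK ≫ K.map (adj.homEquiv _ _ a₀) ≫ th.hom.app Q) :
    EtMVLib.transMap R adj R' K cK th adj' ≫ a₀ = (adj'.homEquiv _ _).symm β ≫ g := by
  rw [EtMVLib.transMap, ← Adjunction.homEquiv_naturality_right_symm, ← Adjunction.homEquiv_naturality_right_symm, hβ]
  refine congrArg (adj'.homEquiv _ _).symm ?_
  rw [Category.assoc, Category.assoc, ← th.hom.naturality, Functor.comp_map, ← K.map_comp_assoc,
    Adjunction.homEquiv_unit]

theorem sq_of_nat {B B' : Type*} [Category B] [Category B'] {R : C ⥤ B} {K : B ⥤ B'} {R' : C ⥤ B'}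
    (th : R ⋙ K ≅ R') {I Q : C} (g : I ⟶ Q) {c c₂ : B'} (β' : c ⟶ K.obj (R.obj I)) (P : c ⟶ c₂)
    (A : c₂ ⟶ K.obj (R.obj Q)) (key : β' ≫ K.map (R.map g) = P ≫ A) :
    (β' ≫ th.hom.app I) ≫ R'.map g = P ≫ A ≫ th.hom.app Q := by
  rw [Category.assoc, ← th.hom.naturality g, Functor.comp_map, ← Category.assoc, key, Category.assoc]

end generic

theorem ext_one {A : AddCommGrpCat.{u + 1}} {p q : AddCommGrpCat.of (ULift.{u + 1} ℤ) ⟶ A}
    (h : p (ULift.up (1 : ℤ)) = q (ULift.up (1 : ℤ))) : p = q := by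
  refine AddCommGrpCat.hom_ext (AddMonoidHom.ext fun m => ?_)
  obtain ⟨m⟩ := m
  have hm : (ULift.up m : ULift.{u + 1} ℤ) = m • ULift.up (1 : ℤ) := ULift.ext _ _ (by simp)
  rw [hm, map_zsmul, map_zsmul]
  exact congrArg (m • ·) h

/-- the morphism of global sections attached to one section -/
def ofSec {A : AddCommGrpCat.{u + 1}} (s : A) : AddCommGrpCat.of (ULift.{u + 1} ℤ) ⟶ A :=
  AddCommGrpCat.ofHom ((zmultiplesHom _ s).comp AddEquiv.ulift.toAddMonoidHom)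

theorem ofSec_one {A : AddCommGrpCat.{u + 1}} (s : A) : ofSec s (ULift.up (1 : ℤ)) = s := one_zsmul s

variable {X : Scheme.{u}} (hS : ∀ s : X, EtCoh.IsStrictlyHenselianLocalRing (X.presheaf.stalk s))

include hS

theorem exists_local_lift {I Q : EtCoh.Ab X} (g : I ⟶ Q) [Epi g] (O : X.Opens)
    (a : EtCoh.const (↑O : Scheme.{u}) ℤ ⟶ (EtCoh.pull O.ι).obj Q) (x : X) (hx : x ∈ O) :
    ∃ (W : X.Opens) (k : (↑W : Scheme.{u}) ⟶ (↑O : Scheme.{u})) (e : k ≫ O.ι = W.ι) (β : EtCoh.const (↑W : Scheme.{u}) ℤ ⟶ (EtCoh.pull W.ι).obj I), x ∈ W ∧ W ≤ O ∧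
      β ≫ (EtCoh.pull W.ι).map g = (EtCore.pullConst k ℤ).inv ≫ (EtCoh.pull k).map a ≫
        (θ O.ι W.ι k e).hom.app Q := by
  let g' := (EtCoh.pull O.ι).map g
  haveI : (EtCoh.pull O.ι).PreservesEpimorphisms := inferInstance
  haveI : Epi g' := inferInstanceAs (Epi ((EtCoh.pull O.ι).map g))
  let t := ((EtCore.constAdj (↑O : Scheme.{u})).homEquiv _ _ a) (ULift.up (1 : ℤ))
  let o : (EtCoh.top (↑O : Scheme.{u})).left := (⟨x, hx⟩ : O)
  obtain ⟨Ω, _, _, ξ, v₀, hv₀⟩ := EtFound.exists_algClosed_point (EtCoh.top (↑O : Scheme.{u})) o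
  let Φ := Scheme.pointSmallEtale ξ
  obtain ⟨q, hq⟩ := (EtFound.epi_iff_stalks g').1 inferInstance Ω ξ
    (Φ.toPresheafFiber _ v₀ ((EtCoh.pull O.ι).obj Q).obj t)
  obtain ⟨V, v, i, rfl⟩ := Φ.toPresheafFiber_jointly_surjective (P := ((EtCoh.pull O.ι).obj I).obj) q
  obtain ⟨⟨P, p⟩, ⟨c₁, hc₁⟩, ⟨c₀, hc₀⟩, -⟩ := IsCofilteredOrEmpty.cone_objs
    (Φ.fiber.elementsMk V v) (Φ.fiber.elementsMk (EtCoh.top _) v₀)
  have hc₁' : Φ.fiber.map c₁ p = v := hc₁
  have hc₀' : Φ.fiber.map c₀ p = v₀ := hc₀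
  have e : Φ.toPresheafFiber P p ((EtCoh.pull O.ι).obj Q).obj
        (g'.hom.app (op P) (((EtCoh.pull O.ι).obj I).obj.map c₁.op i)) =
      Φ.toPresheafFiber P p ((EtCoh.pull O.ι).obj Q).obj (((EtCoh.pull O.ι).obj Q).obj.map c₀.op t) := by
    refine ((Φ.toPresheafFiber_naturality_apply g'.hom P p _).symm).trans ?_
    refine Eq.trans ?_ (Φ.toPresheafFiber_w_apply c₀ p ((EtCoh.pull O.ι).obj Q).obj t).symm
    rw [hc₀']
    refine Eq.trans ?_ hq
    refine congrArg ((EtCoh.stalk ξ).map g') ?_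
    exact (Φ.toPresheafFiber_w_apply c₁ p ((EtCoh.pull O.ι).obj I).obj i).trans
      (congrArg (fun w => Φ.toPresheafFiber V w ((EtCoh.pull O.ι).obj I).obj i) hc₁')
  obtain ⟨P', d, p', hp', hd⟩ := (Φ.toPresheafFiber_eq_iff' P p _ _).1 e
  haveI : AlgebraicGeometry.Etale P'.hom := P'.prop
  have hpx : (P'.hom ≫ O.ι).base ((p'.left : Spec (CommRingCat.of Ω) ⟶ P'.left).base
      (default : Spec (CommRingCat.of Ω))) = x := by
    have e1 : (p'.left : Spec (CommRingCat.of Ω) ⟶ P'.left) ≫ P'.hom = ξ := CategoryTheory.Over.w p'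
    have e2 : ξ.base (default : Spec (CommRingCat.of Ω)) = o := (EtFound.base_of_point v₀).symm.trans hv₀
    refine (Scheme.Hom.comp_apply _ _ _).trans ?_
    refine (congrArg O.ι.base (((Scheme.Hom.comp_apply _ _ _).symm.trans
      (congrArg (fun q : Spec (CommRingCat.of Ω) ⟶ (↑O : Scheme.{u}) => q.base (default : Spec (CommRingCat.of Ω))) e1)).trans e2)).trans ?_
    rfl
  obtain ⟨W₀, σ, hxW, hσ⟩ := BigSiteLib.exists_open_section hS (P'.hom ≫ O.ι)
    ((p'.left : Spec (CommRingCat.of Ω) ⟶ P'.left).base (default : Spec (CommRingCat.of Ω)))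
  rw [hpx] at hxW
  refine ⟨W₀ ⊓ O, ?_⟩
  obtain ⟨k, hk⟩ : ∃ k : (↑(W₀ ⊓ O) : Scheme.{u}) ⟶ (↑O : Scheme.{u}), k = X.homOfLE inf_le_right := ⟨_, rfl⟩
  have hkι : k ≫ O.ι = (W₀ ⊓ O).ι := by rw [hk, Scheme.homOfLE_ι]
  let K : (↑O : Scheme.{u}).Etale := MorphismProperty.Over.mk ⊤ k (by rw [hk]; infer_instance)
  let l : K ⟶ P' := MorphismProperty.Over.homMk (X.homOfLE inf_le_left ≫ σ) (by
    apply (cancel_mono O.ι).1
    show ((X.homOfLE inf_le_left ≫ σ) ≫ P'.hom) ≫ O.ι = k ≫ O.ι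
    rw [Category.assoc, Category.assoc, hσ, Scheme.homOfLE_ι, hkι]) trivial
  let i₁ := ((EtCoh.pull O.ι).obj I).obj.map (l ≫ d ≫ c₁).op i
  have hi₁ : g'.hom.app (op K) i₁ = ((EtCoh.pull O.ι).obj Q).obj.map (l ≫ d ≫ c₀).op t := by
    have h := congrArg (((EtCoh.pull O.ι).obj Q).obj.map l.op) hd
    simp only [op_comp, Functor.map_comp_apply] at h ⊢
    refine Eq.trans ?_ h
    simp only [i₁, op_comp, Functor.map_comp_apply]
    rw [NatTrans.naturality_apply, NatTrans.naturality_apply]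
  let δ : EtCoh.top (↑(W₀ ⊓ O) : Scheme.{u}) ⟶ (EtCoh.bc k).obj K :=
    MorphismProperty.Over.homMk (pullback.lift (𝟙 _) (𝟙 _) rfl) (pullback.lift_snd _ _ _) trivial
  let s := ((EtCoh.pull k).obj ((EtCoh.pull O.ι).obj I)).obj.map δ.op
    (((EtCoh.pullPushAdj k).unit.app ((EtCoh.pull O.ι).obj I)).hom.app (op K) i₁)
  let β' : EtCoh.const (↑(W₀ ⊓ O) : Scheme.{u}) ℤ ⟶ (EtCoh.pull k).obj ((EtCoh.pull O.ι).obj I) :=
    ((EtCore.constAdj _).homEquiv _ _).symm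
      (ofSec s)
  refine ⟨k, hkι, β' ≫ (θ O.ι (W₀ ⊓ O).ι k hkι).hom.app I, ⟨hxW, hx⟩, inf_le_right, ?_⟩
  have hel : ((EtCoh.pull k).map g').hom.app (op (EtCoh.top _)) s =
      (pullSec k).app ((EtCoh.pull O.ι).obj Q) t := by
    change _ = ((EtCoh.pull k).obj ((EtCoh.pull O.ι).obj Q)).obj.map (EtCore.bcTopIso k).inv.op
      (((EtCoh.pullPushAdj k).unit.app ((EtCoh.pull O.ι).obj Q)).hom.app (op (EtCoh.top _)) t)
    refine (NatTrans.naturality_apply ((EtCoh.pull k).map g').hom δ.op _).trans ?_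
    have hn := congr(($((EtCoh.pullPushAdj k).unit.naturality g')).hom.app (op K) i₁)
    refine (congrArg (((EtCoh.pull k).obj ((EtCoh.pull O.ι).obj Q)).obj.map δ.op) hn.symm).trans ?_
    change ((EtCoh.pull k).obj ((EtCoh.pull O.ι).obj Q)).obj.map δ.op
      (((EtCoh.pullPushAdj k).unit.app _).hom.app (op K) (g'.hom.app (op K) i₁)) = _
    rw [hi₁]
    refine (congrArg (((EtCoh.pull k).obj ((EtCoh.pull O.ι).obj Q)).obj.map δ.op)
      (NatTrans.naturality_apply ((EtCoh.pullPushAdj k).unit.app ((EtCoh.pull O.ι).obj Q)).hom (l ≫ d ≫ c₀).op t)).trans ?_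
    refine (Functor.map_comp_apply _ _ _ _).symm.trans ?_
    exact congrArg (fun m => ((EtCoh.pull k).obj ((EtCoh.pull O.ι).obj Q)).obj.map (Quiver.Hom.op m)
      (((EtCoh.pullPushAdj k).unit.app ((EtCoh.pull O.ι).obj Q)).hom.app (op (EtCoh.top _)) t))
      ((EtCore.bcTopIsTerminal k).hom_ext (δ ≫ (EtCoh.bc k).map (l ≫ d ≫ c₀)) (EtCore.bcTopIso k).inv)
  have key : β' ≫ (EtCoh.pull k).map g' = (EtCore.pullConst k ℤ).inv ≫ (EtCoh.pull k).map a := by
    apply ((EtCore.constAdj _).homEquiv _ _).injective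
    rw [Adjunction.homEquiv_naturality_right, Adjunction.homEquiv_naturality_right, Equiv.apply_symm_apply,
      homEquiv_pullConst_inv]
    refine ext_one ?_
    refine (ConcreteCategory.comp_apply _ _ _).trans ((congrArg ((EtCore.gsec _).map ((EtCoh.pull k).map g')) (ofSec_one s)).trans
      (hel.trans ?_))
    have hn := congr($((pullSec k).naturality a) ((EtCore.constAdj _).unit.app _ (ULift.up (1 : ℤ))))
    exact hn
  have q := sq_of_nat (C := EtCoh.Ab X) (B := EtCoh.Ab (↑O : Scheme.{u})) (B' := EtCoh.Ab (↑(W₀ ⊓ O) : Scheme.{u}))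
        (R := EtCoh.pull O.ι) (K := EtCoh.pull k) (R' := EtCoh.pull (W₀ ⊓ O).ι)
        (θ O.ι (W₀ ⊓ O).ι k hkι) g β' (EtCore.pullConst k ℤ).inv ((EtCoh.pull k).map a) key
  exact q

omit hS in
theorem sMap_eq {W O : X.Opens} (h : W ≤ O) (e : X.homOfLE h ≫ O.ι = W.ι) :
    shriekZMap O.ι W.ι (X.homOfLE h) e = sMap h := rfl

/-- classes of positive degree vanish near every point -/
theorem exists_rT_eq_zero : ∀ (n : ℕ) (F : EtCoh.Ab X) (O : X.Opens) (ξ : T O F (n + 1)) (x : X), x ∈ O →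
    ∃ (W : X.Opens) (h : W ≤ O), x ∈ W ∧ rT h ξ = 0 := by
  intro n
  induction n with
  | zero =>
    intro F O ξ x hx
    obtain ⟨α, rfl⟩ := exists_eq_comp_extClass ξ
    obtain ⟨a₀, rfl⟩ := (Ext.mk₀_bijective _ _).2 α
    haveI : Epi (injSES F).g := (injSES_shortExact F).epi_g
    obtain ⟨W, k, e, β, hxW, h, hβ⟩ := exists_local_lift hS (injSES F).g O
      ((shriekAdj O.ι).homEquiv _ _ a₀) x hx
    refine ⟨W, h, hxW, ?_⟩
    obtain rfl : k = X.homOfLE h := (cancel_mono O.ι).1 (e.trans (X.homOfLE_ι h).symm)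
    have hm0 :=
      trans_lift (C := EtCoh.Ab X) (B := EtCoh.Ab (↑O : Scheme.{u})) (B' := EtCoh.Ab (↑W : Scheme.{u}))
        (EtCoh.pull O.ι) (shriekAdj O.ι) (EtCoh.pull W.ι) (EtCoh.pull (X.homOfLE h))
        (cB := EtCoh.const _ ℤ) (cC := EtCoh.const _ ℤ) (EtCore.pullConst (X.homOfLE h) ℤ).inv
        (θ O.ι W.ι (X.homOfLE h) e) (shriekAdj W.ι) (injSES F).g a₀ β hβ
    have hm : sMap h ≫ a₀ = ((shriekAdj W.ι).homEquiv (EtCoh.const _ ℤ) (injSES F).X₂).symm β ≫ (injSES F).g :=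
      (congrArg (fun m => m ≫ a₀) (sMap_eq h e).symm).trans hm0
    exact kill_of_lift (injSES_shortExact F) (sMap h) a₀ (((shriekAdj W.ι).homEquiv _ _).symm β) hm
  | succ n ih =>
    intro F O ξ x hx
    obtain ⟨α, rfl⟩ := exists_eq_comp_extClass ξ
    obtain ⟨W, h, hxW, hz⟩ := ih (injSES F).X₃ O α x hx
    exact ⟨W, h, hxW, kill_comp (injSES_shortExact F) (sMap h) α hz⟩

end Groth.Agent.Gabber11
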