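import Groth.Agent.Gabber11.LocVan
import Groth.Agent.Hensel.HenselizationProps
import Groth.Agent.Hensel.Henselization

/-! the induction of Gabber's criterion -/

universe u

open CategoryTheory CategoryTheory.Limits AlgebraicGeometry Opposite CategoryTheory.Abelian

namespace Groth.Agent.Gabber11

set_option backward.isDefEq.respectTransparency.types false

open EtMVLib

theorem strict_stalk (R : Type u) [CommRing R]
    (hR : ∀ p : PrimeSpectrum R, EtCoh.IsStrictlyHenselianLocalRing (Localization.AtPrime p.asIdeal))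
    (s : ↥(Spec (CommRingCat.of R))) :
    EtCoh.IsStrictlyHenselianLocalRing ((Spec (CommRingCat.of R)).presheaf.stalk s) := by
  obtain ⟨hh, hsep⟩ := hR s
  let e : Localization.AtPrime s.asIdeal ≃+* (Spec (CommRingCat.of R)).presheaf.stalk s :=
    (AlgebraicGeometry.StructureSheaf.stalkIso R s).toRingEquiv
  have : IsLocalRing ((Spec (CommRingCat.of R)).presheaf.stalk s) := inferInstance
  exact ⟨Hensel.henselianLocalRing_of_ringEquiv e, Hensel.isSepClosed_of_ringEquiv (IsLocalRing.ResidueField.mapEquiv e)⟩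

theorem eq_zero_of_le {X : Scheme.{u}} {O O' : X.Opens} (h : O ≤ O') (h' : O' ≤ O) {F : EtCoh.Ab X} {n : ℕ}
    (ξ : T O F n) (hz : rT h' ξ = 0) : ξ = 0 := by
  obtain rfl : O = O' := le_antisymm h h'
  have e : rT (le_refl O) ξ = ξ := by
    have h1 : sMap (le_refl O) = 𝟙 (shriekZ O.ι) := by
      have := mono_shriekZTo O
      rw [← cancel_mono (shriekZTo O.ι), sMap_comp_to, Category.id_comp]
    rw [rT, h1, Ext.mk₀_id_comp]
  exact e.symm.trans hz

variable {X : Scheme.{u}} [IsAffine X] (hS : ∀ s : X, EtCoh.IsStrictlyHenselianLocalRing (X.presheaf.stalk s))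
  (F : EtCoh.Ab X)

include hS

theorem step (n : ℕ)
    (hsum : ∀ (f g : Γ(X, ⊤)) (ξ : T (X.basicOpen (f + g)) F (n + 1)),
      rT (X.basicOpen_mul f (f + g) ▸ inf_le_right : X.basicOpen (f * (f + g)) ≤ X.basicOpen (f + g)) ξ = 0 →
      rT (X.basicOpen_mul g (f + g) ▸ inf_le_right : X.basicOpen (g * (f + g)) ≤ X.basicOpen (f + g)) ξ = 0 → ξ = 0)
    (h : Γ(X, ⊤)) (ξ : T (X.basicOpen h) F (n + 1)) : ξ = 0 := by
  have hle : ∀ f : Γ(X, ⊤), X.basicOpen (h * f) ≤ X.basicOpen h := fun f =>
    (X.basicOpen_mul h f).trans_le inf_le_left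
  let I : Ideal Γ(X, ⊤) :=
    { carrier := { f | rT (hle f) ξ = 0 }
      zero_mem' := by
        refine subsingleton_T_bot _ (fun x hx => ?_) _
        rw [mul_zero, X.basicOpen_zero] at hx
        exact hx
      add_mem' := by
        intro f g hf hg
        have hf' : rT (hle f) ξ = 0 := hf
        have hg' : rT (hle g) ξ = 0 := hg
        show rT (hle (f + g)) ξ = 0
        have e : h * (f + g) = h * f + h * g := mul_add _ _ _
        have he : X.basicOpen (h * f + h * g) ≤ X.basicOpen (h * (f + g)) := by rw [e]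
        have he' : X.basicOpen (h * (f + g)) ≤ X.basicOpen (h * f + h * g) := by rw [e]
        refine eq_zero_of_le he' he _ ?_
        rw [rT_rT]
        refine hsum (h * f) (h * g) _ ?_ ?_
        · have l : X.basicOpen ((h * f) * (h * f + h * g)) ≤ X.basicOpen (h * f) :=
            (X.basicOpen_mul _ _).trans_le inf_le_left
          rw [rT_rT, ← rT_rT l (hle f), hf', rT_zero]
        · have l : X.basicOpen ((h * g) * (h * f + h * g)) ≤ X.basicOpen (h * g) :=
            (X.basicOpen_mul _ _).trans_le inf_le_left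
          rw [rT_rT, ← rT_rT l (hle g), hg', rT_zero]
      smul_mem' := by
        intro c f hf
        have hf' : rT (hle f) ξ = 0 := hf
        show rT (hle (c * f)) ξ = 0
        have l : X.basicOpen (h * (c * f)) ≤ X.basicOpen (h * f) := by
          rw [show h * (c * f) = c * (h * f) by ring]
          exact (X.basicOpen_mul _ _).trans_le inf_le_right
        rw [← rT_rT l (hle f), hf', rT_zero] }
  have hloc : ∀ x ∈ X.basicOpen h, ∃ f ∈ I, x ∈ X.basicOpen f := by
    intro x hx
    obtain ⟨W, hW, hxW, hz⟩ := exists_rT_eq_zero hS n F _ ξ x hx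
    obtain ⟨f, hfW, hxf⟩ := (isAffineOpen_top X).exists_basicOpen_le ⟨x, hxW⟩ (Set.mem_univ x)
    refine ⟨f, ?_, hxf⟩
    show rT (hle f) ξ = 0
    have l : X.basicOpen (h * f) ≤ W := ((X.basicOpen_mul h f).trans_le inf_le_right).trans hfW
    rw [← rT_rT l hW, hz, rT_zero]
  have hrad : h ∈ I.radical := by
    rw [Ideal.radical_eq_sInf, Ideal.mem_sInf]
    rintro J ⟨hIJ, hJ⟩
    by_contra hh
    let p : PrimeSpectrum Γ(X, ⊤) := ⟨J, hJ⟩
    have hp : ∀ f : Γ(X, ⊤), (isAffineOpen_top X).fromSpec p ∈ X.basicOpen f ↔ f ∉ J := fun f => by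
      change p ∈ (isAffineOpen_top X).fromSpec ⁻¹ᵁ X.basicOpen f ↔ _
      rw [(isAffineOpen_top X).fromSpec_preimage_basicOpen]
      rfl
    obtain ⟨f, hfI, hxf⟩ := hloc _ ((hp h).2 hh)
    exact (hp f).1 hxf (hIJ hfI)
  obtain ⟨N, hN⟩ := hrad
  refine eq_zero_of_le ?_ (hle (h ^ N)) ξ hN
  rw [← pow_succ']
  intro x hx
  rw [Scheme.mem_basicOpen_top] at hx ⊢
  rw [map_pow]
  exact hx.pow _

end Groth.Agent.Gabber11
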