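import Groth.Agent.EtMVLib.MV

/-! cohomology on open pieces as Ext groups from extended constant sheaves -/

universe u

open CategoryTheory CategoryTheory.Limits AlgebraicGeometry Opposite CategoryTheory.Abelian

namespace Groth.Agent.Gabber11

set_option backward.isDefEq.respectTransparency.types false

open EtMVLib

variable {X : Scheme.{u}}

/-- `H^n(O, F|_O)` as an Ext group -/
abbrev T (O : X.Opens) (F : EtCoh.Ab X) (n : ℕ) : Type (u + 1) := Ext (shriekZ O.ι) F n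

/-- the map of extended constant sheaves -/
noncomputable abbrev sMap {W O : X.Opens} (h : W ≤ O) : shriekZ W.ι ⟶ shriekZ O.ι :=
  shriekZMap O.ι W.ι (X.homOfLE h) (X.homOfLE_ι h)

/-- restriction -/
noncomputable def rT {W O : X.Opens} (h : W ≤ O) {F : EtCoh.Ab X} {n : ℕ} (x : T O F n) : T W F n :=
  (Ext.mk₀ (sMap h)).comp x (zero_add n)

theorem rT_zero {W O : X.Opens} (h : W ≤ O) {F : EtCoh.Ab X} {n : ℕ} : rT h (0 : T O F n) = 0 :=
  by rw [rT, Ext.comp_zero]

theorem mono_shriekZTo (O : X.Opens) : Mono (shriekZTo O.ι) := by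
  refine (EtFound.mono_iff_stalks _).2 fun Ω _ _ ξ => ?_
  by_cases h : ξ.base (default : Spec (CommRingCat.of Ω)) ∈ O
  · have := isIso_stalk_shriekZTo O ξ h
    exact ((ConcreteCategory.isIso_iff_bijective _).1 this).1
  · intro a b _
    have := AddCommGrpCat.subsingleton_of_isZero (isZero_stalk_shriekZ O ξ h)
    exact Subsingleton.elim _ _

theorem sMap_comp_to {W O : X.Opens} (h : W ≤ O) : sMap h ≫ shriekZTo O.ι = shriekZTo W.ι :=
  shriekZMap_comp _ _ _ _

theorem sMap_comp {W V O : X.Opens} (h : W ≤ V) (h' : V ≤ O) : sMap h ≫ sMap h' = sMap (h.trans h') := by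
  have := mono_shriekZTo O
  rw [← cancel_mono (shriekZTo O.ι), Category.assoc, sMap_comp_to, sMap_comp_to, sMap_comp_to]

theorem rT_rT {W V O : X.Opens} (h : W ≤ V) (h' : V ≤ O) {F : EtCoh.Ab X} {n : ℕ} (x : T O F n) :
    rT h (rT h' x) = rT (h.trans h') x := by
  rw [rT, rT, rT, Ext.mk₀_comp_mk₀_assoc, sMap_comp]

theorem subsingleton_T_bot {F : EtCoh.Ab X} {n : ℕ} (O : X.Opens) (hO : ∀ x : X, x ∉ O) (x : T O F n) : x = 0 := by
  have hz : IsZero (shriekZ O.ι) := (EtFound.isZero_iff_stalks _).2 fun Ω _ _ ξ =>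
    isZero_stalk_shriekZ O ξ (hO _)
  rw [← Ext.mk₀_id_comp x, hz.eq_of_src (𝟙 _) 0, Ext.mk₀_zero, Ext.zero_comp]

section cover

variable (O U V : X.Opens) (hU : U ≤ O) (hV : V ≤ O)

theorem cover_shortExact (hcov : O ≤ U ⊔ V) :
    (mvSC (sMap (inf_le_left : U ⊓ V ≤ U)) (sMap (inf_le_right : U ⊓ V ≤ V)) (sMap hU) (sMap hV)
      (r := sMap ((inf_le_left : U ⊓ V ≤ U).trans hU)) (sMap_comp _ _) (sMap_comp _ _)).ShortExact := by
  suffices key : ∀ (Ω : Type u) [Field Ω] [IsSepClosed Ω] (ξ : Spec (CommRingCat.of Ω) ⟶ X),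
      ((mvSC (sMap (inf_le_left : U ⊓ V ≤ U)) (sMap (inf_le_right : U ⊓ V ≤ V)) (sMap hU) (sMap hV)
        (r := sMap ((inf_le_left : U ⊓ V ≤ U).trans hU)) (sMap_comp _ _) (sMap_comp _ _)).map
          (EtCoh.stalk ξ)).ShortExact by
    refine ShortComplex.ShortExact.mk' ((EtFound.exact_iff_stalks _).2 fun Ω _ _ ξ => (key Ω ξ).exact)
      ((EtFound.mono_iff_stalks _).2 fun Ω _ _ ξ => ?_) ((EtFound.epi_iff_stalks _).2 fun Ω _ _ ξ => ?_)
    · exact (AddCommGrpCat.mono_iff_injective _).1 (key Ω ξ).mono_f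
    · exact (AddCommGrpCat.epi_iff_surjective _).1 (key Ω ξ).epi_g
  intro Ω _ _ ξ
  have : (EtCoh.stalk ξ).Additive := Functor.additive_of_preserves_binary_products _
  have hiso : ∀ {W : X.Opens} (h : W ≤ O), ξ.base (default : Spec (CommRingCat.of Ω)) ∈ W →
      IsIso ((EtCoh.stalk ξ).map (sMap h)) := fun {W} h hm => by
    have := isIso_stalk_shriekZTo O ξ (h hm)
    have h2 : IsIso ((EtCoh.stalk ξ).map (sMap h) ≫ (EtCoh.stalk ξ).map (shriekZTo O.ι)) := by
      rw [← Functor.map_comp, sMap_comp_to]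
      exact isIso_stalk_shriekZTo W ξ hm
    exact IsIso.of_isIso_comp_right _ ((EtCoh.stalk ξ).map (shriekZTo O.ι))
  by_cases hu : ξ.base (default : Spec (CommRingCat.of Ω)) ∈ U
  · by_cases hv : ξ.base (default : Spec (CommRingCat.of Ω)) ∈ V
    · have := hiso hU hu
      have := hiso hV hv
      have := hiso ((inf_le_left : U ⊓ V ≤ U).trans hU) ⟨hu, hv⟩
      exact shortExact_map_of_isIso (EtCoh.stalk ξ) _ _ _ _ _ _
    · exact shortExact_map_of_isZero (EtCoh.stalk ξ) _ _ _ _ _ _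
        (isZero_stalk_shriekZ (U ⊓ V) ξ fun h => hv h.2)
        (Or.inl ⟨hiso hU hu, isZero_stalk_shriekZ V ξ hv⟩)
  · by_cases hv : ξ.base (default : Spec (CommRingCat.of Ω)) ∈ V
    · exact shortExact_map_of_isZero (EtCoh.stalk ξ) _ _ _ _ _ _
        (isZero_stalk_shriekZ (U ⊓ V) ξ fun h => hu h.1)
        (Or.inr ⟨hiso hV hv, isZero_stalk_shriekZ U ξ hu⟩)
    · have hO : ξ.base (default : Spec (CommRingCat.of Ω)) ∉ O := fun h =>
        (TopologicalSpace.Opens.mem_sup.1 (hcov h)).elim hu hv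
      exact shortExact_map_of_isZero (EtCoh.stalk ξ) _ _ _ _ _ _
        (isZero_stalk_shriekZ (U ⊓ V) ξ fun h => hv h.2)
        (Or.inl ⟨⟨0, (isZero_stalk_shriekZ U ξ hu).eq_of_src _ _, (isZero_stalk_shriekZ O ξ hO).eq_of_src _ _⟩,
          isZero_stalk_shriekZ V ξ hv⟩)

/-- Mayer-Vietoris injectivity -/
theorem eq_zero_of_cover (hcov : O ≤ U ⊔ V) {F : EtCoh.Ab X} {n : ℕ} (x : T O F (n + 1))
    (hxU : rT hU x = 0) (hxV : rT hV x = 0) (hz : ∀ y : T (U ⊓ V) F n, y = 0) : x = 0 := by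
  have hS := cover_shortExact O U V hU hV hcov
  obtain ⟨y, rfl⟩ := Ext.contravariant_sequence_exact₃ hS F x (by
    refine Ext.biprod_ext ?_ ?_
    · exact (((Ext.mk₀_comp_mk₀_assoc biprod.inl (biprod.desc (sMap hU) (sMap hV)) x).trans
        (congrArg (fun m => (Ext.mk₀ m).comp x (zero_add (n + 1))) (biprod.inl_desc (sMap hU) (sMap hV)))).trans hxU).trans
          (Ext.comp_zero (Ext.mk₀ biprod.inl) F (n + 1) (n + 1) (zero_add (n + 1))).symm
    · exact (((Ext.mk₀_comp_mk₀_assoc biprod.inr (biprod.desc (sMap hU) (sMap hV)) x).trans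
        (congrArg (fun m => (Ext.mk₀ m).comp x (zero_add (n + 1))) (biprod.inr_desc (sMap hU) (sMap hV)))).trans hxV).trans
          (Ext.comp_zero (Ext.mk₀ biprod.inr) F (n + 1) (n + 1) (zero_add (n + 1))).symm) (add_comm 1 n)
  exact (congrArg (fun z => hS.extClass.comp z (add_comm 1 n)) (hz y)).trans
    (Ext.comp_zero hS.extClass F n (n + 1) (add_comm 1 n))

end cover

/-- comparison with cohomology of the open piece -/
noncomputable def toH (O : X.Opens) [PreservesFiniteLimits (EtCoh.pull O.ι)] (F : EtCoh.Ab X) (n : ℕ) :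
    T O F n →+ EtCoh.H ↑O ((EtCoh.pull O.ι).obj F) n :=
  adjExtMap (shriekAdj O.ι) (EtCoh.const _ ℤ) F n

theorem toH_bijective (O : X.Opens) [PreservesFiniteLimits (EtCoh.pull O.ι)] (F : EtCoh.Ab X) (n : ℕ) :
    Function.Bijective (toH O F n) := by
  have := preservesMono_extZero O.ι
  exact adjExtMap_bijective (shriekAdj O.ι) _ F n

theorem toH_rT {W O : X.Opens} (h : W ≤ O) [PreservesFiniteLimits (EtCoh.pull O.ι)]
    [PreservesFiniteLimits (EtCoh.pull W.ι)] [PreservesFiniteLimits (EtCoh.pull (X.homOfLE h))]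
    (F : EtCoh.Ab X) (n : ℕ) (x : T O F n) :
    EtCore.HpullVia (X.homOfLE h) O.ι W.ι (X.homOfLE_ι h) F n (toH O F n x) = toH W F n (rT h x) := by
  refine (HpullVia_apply' O.ι W.ι (X.homOfLE h) (X.homOfLE_ι h) F n _).trans ?_
  exact via_eq (EtCoh.pull O.ι) (shriekAdj O.ι) (EtCoh.pull W.ι) (EtCoh.pull (X.homOfLE h))
    (EtCore.pullConst (X.homOfLE h) ℤ).inv (θ O.ι W.ι (X.homOfLE h) (X.homOfLE_ι h)) (shriekAdj W.ι) F n x

end Groth.Agent.Gabber11
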